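import Mathlib
import Cfsg.Agent.Lib.Cores.Basic

/-! Conjugacy class sizes of commuting and coprime elements. -/

set_option autoImplicit false
set_option linter.style.haveILetI false
set_option linter.deprecated false

namespace Cfsg.Agent.GroupStructure3.ClassGraph

open Subgroup
open scoped commutatorElement Pointwise

variable {G : Type*} [Group G]

/-- The size of the conjugacy class. -/
noncomputable abbrev cs (g : G) : ℕ := (centralizer ({g} : Set G)).index

theorem mem_cent {g x : G} : x ∈ centralizer ({g} : Set G) ↔ x * g = g * x := mem_centralizer_singleton_iff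

theorem cs_eq_one_iff {g : G} : cs g = 1 ↔ g ∈ center G := by
  rw [cs, Subgroup.index_eq_one, Subgroup.centralizer_eq_top_iff_subset, Set.singleton_subset_iff]; rfl

theorem centralizer_conj (a g : G) :
    centralizer ({a * g * a⁻¹} : Set G) = (centralizer ({g} : Set G)).map (MulAut.conj a).toMonoidHom := by
  ext x
  rw [Subgroup.mem_map_equiv, mem_cent, mem_cent, MulAut.conj_symm_apply]
  constructor
  · intro h
    calc a⁻¹ * x * a * g = a⁻¹ * (x * (a * g * a⁻¹)) * a := by group
      _ = g * (a⁻¹ * x * a) := by rw [h]; group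
  · intro h
    calc x * (a * g * a⁻¹) = a * (a⁻¹ * x * a * g) * a⁻¹ := by group
      _ = a * g * a⁻¹ * x := by rw [h]; group

theorem cs_conj (a g : G) : cs (a * g * a⁻¹) = cs g := by
  rw [cs, centralizer_conj]; exact Subgroup.index_map_equiv _ (MulAut.conj a)

theorem cs_inv (g : G) : cs g⁻¹ = cs g := by
  rw [cs, cs]
  congr 1
  ext x
  rw [mem_cent, mem_cent]
  exact ⟨fun h => by simpa using (show Commute x g⁻¹ from h).inv_right.eq, fun h => (show Commute x g from h).inv_right.eq⟩

theorem centralizer_pow_le (g : G) (n : ℕ) : centralizer ({g} : Set G) ≤ centralizer ({g ^ n} : Set G) :=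
  fun _ hx => mem_cent.mpr ((show Commute _ g from mem_cent.mp hx).pow_right n).eq

theorem cs_pow_dvd (g : G) (n : ℕ) : cs (g ^ n) ∣ cs g := index_dvd_of_le (centralizer_pow_le g n)

theorem mem_of_pow_mem {S : Subgroup G} {k : G} {a b : ℕ} (hab : a.Coprime b) (ha : k ^ a ∈ S) (hb : k ^ b ∈ S) :
    k ∈ S := by
  have h := Nat.gcd_eq_gcd_ab a b
  rw [Nat.coprime_iff_gcd_eq_one.mp hab] at h
  have e : k = (k ^ a) ^ Nat.gcdA a b * (k ^ b) ^ Nat.gcdB a b := by
    rw [← zpow_natCast k a, ← zpow_natCast k b, ← zpow_mul, ← zpow_mul, ← zpow_add, ← h]; simp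
  rw [e]
  exact mul_mem (zpow_mem ha _) (zpow_mem hb _)

theorem centralizer_mul_eq {a b : G} (h : Commute a b) (hc : (orderOf a).Coprime (orderOf b)) :
    centralizer ({a * b} : Set G) = centralizer ({a} : Set G) ⊓ centralizer ({b} : Set G) := by
  refine le_antisymm ?_ fun x hx => mem_cent.mpr
    ((show Commute x a from mem_cent.mp hx.1).mul_right (show Commute x b from mem_cent.mp hx.2)).eq
  have key : ∀ u v : G, Commute u v → (orderOf u).Coprime (orderOf v) →
      centralizer ({u * v} : Set G) ≤ centralizer ({u} : Set G) := by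
    intro u v huv huv'
    obtain ⟨k, hk⟩ := exists_pow_eq_self_of_coprime huv'.symm
    have e : (u * v) ^ (orderOf v * k) = u := by
      rw [huv.mul_pow, pow_mul v, pow_orderOf_eq_one, one_pow, mul_one, pow_mul, hk]
    calc centralizer ({u * v} : Set G) ≤ centralizer ({(u * v) ^ (orderOf v * k)} : Set G) := centralizer_pow_le _ _
      _ = centralizer ({u} : Set G) := by rw [e]
  exact le_inf (key a b h hc) (h.eq ▸ key b a h.symm hc.symm)

variable [Finite G]

theorem cs_ne_zero (g : G) : cs g ≠ 0 := Subgroup.index_ne_zero_of_finite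

theorem index_inf_of_coprime {A B : Subgroup G} (h : A.index.Coprime B.index) :
    (A ⊓ B).index = A.index * B.index ∧ A.relIndex B = A.index := by
  have h1 : (A ⊓ B).index = A.relIndex B * B.index := by
    rw [← inf_relIndex_right A B]; exact (relIndex_mul_index inf_le_right).symm
  have h2 : A.index ∣ A.relIndex B * B.index := h1 ▸ index_dvd_of_le inf_le_left
  have h3 : A.index ∣ A.relIndex B := h.dvd_of_dvd_mul_right h2
  have h4 : A.relIndex B ≤ A.index := by
    have := Subgroup.relIndex_le_of_le_right (H := A) (le_top : B ≤ ⊤) (by rw [relIndex_top_right]; exact index_ne_zero_of_finite)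
    rwa [relIndex_top_right] at this
  have h5 : A.relIndex B = A.index := le_antisymm h4 (Nat.le_of_dvd (Nat.pos_of_ne_zero (index_ne_zero_of_finite (H := A.subgroupOf B))) h3)
  exact ⟨by rw [h1, h5], h5⟩

theorem exists_mul_of_coprime {A B : Subgroup G} (h : A.index.Coprime B.index) (g : G) :
    ∃ u ∈ B, ∃ v ∈ A, g = u * v := by
  classical
  have horb : (MulAction.orbit B ((1 : G) : G ⧸ A)) = Set.univ := by
    apply Set.eq_univ_of_forall
    by_contra hne
    push Not at hne
    obtain ⟨c, hc⟩ := hne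
    have hlt : (MulAction.orbit B ((1 : G) : G ⧸ A)).ncard < Nat.card (G ⧸ A) := by
      rw [← Set.ncard_univ]
      exact Set.ncard_lt_ncard (Set.ssubset_univ_iff.mpr fun he => hc (he ▸ Set.mem_univ c)) (Set.toFinite _)
    rw [← MulAction.index_stabilizer] at hlt
    have hst : MulAction.stabilizer B ((1 : G) : G ⧸ A) = A.subgroupOf B := by
      ext b
      rw [MulAction.mem_stabilizer_iff, Subgroup.mem_subgroupOf]
      show (((b : G) * 1 : G) : G ⧸ A) = _ ↔ _
      rw [QuotientGroup.eq, mul_one, mul_one, inv_mem_iff]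
    rw [hst] at hlt
    have : A.relIndex B < A.index := hlt
    rw [(index_inf_of_coprime h).2] at this
    exact lt_irrefl _ this
  obtain ⟨⟨u, hu⟩, hb⟩ := horb.ge (Set.mem_univ ((g : G) : G ⧸ A))
  refine ⟨u, hu, u⁻¹ * g, ?_, by group⟩
  have e : ((u * 1 : G) : G ⧸ A) = (g : G ⧸ A) := hb
  rw [QuotientGroup.eq, mul_one] at e
  exact e

/-- Products of conjugates of coprime classes form one class. -/
theorem conj_mul_conj {a b : G} (h : (cs a).Coprime (cs b)) (g k : G) :
    ∃ c, g * a * g⁻¹ * (k * b * k⁻¹) = c * (a * b) * c⁻¹ := by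
  obtain ⟨u, hu, v, hv, e⟩ := exists_mul_of_coprime h.symm (g⁻¹ * k)
  refine ⟨g * u, ?_⟩
  have hu' : u * a * u⁻¹ = a := mul_inv_eq_iff_eq_mul.mpr (mem_cent.mp hu)
  have hv' : v * b * v⁻¹ = b := mul_inv_eq_iff_eq_mul.mpr (mem_cent.mp hv)
  have hk : k = g * (u * v) := by rw [← e]; group
  calc g * a * g⁻¹ * (k * b * k⁻¹) = g * (a * (u * (v * b * v⁻¹) * u⁻¹)) * g⁻¹ := by rw [hk]; group
    _ = g * ((u * a * u⁻¹) * (u * b * u⁻¹)) * g⁻¹ := by rw [hv', hu']
    _ = g * u * (a * b) * (g * u)⁻¹ := by group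

theorem cs_mul_dvd {a b : G} (h : (cs a).Coprime (cs b)) : cs (a * b) ∣ cs a * cs b := by
  rw [← (index_inf_of_coprime h).1]
  refine index_dvd_of_le fun x hx => mem_cent.mpr ?_
  exact ((show Commute x a from mem_cent.mp hx.1).mul_right (show Commute x b from mem_cent.mp hx.2)).eq

/-- The conjugacy class as a set. -/
def cls (a : G) : Set G := {x | ∃ c : G, c * a * c⁻¹ = x}

theorem ncard_cls (a : G) : (cls a).ncard = cs a := by
  let f : G ⧸ centralizer ({a} : Set G) → G := Quotient.lift (fun c => c * a * c⁻¹) (fun c d hcd => by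
    have h : c⁻¹ * d ∈ centralizer ({a} : Set G) := QuotientGroup.leftRel_apply.mp hcd
    have h' : (c⁻¹ * d) * a * (c⁻¹ * d)⁻¹ = a := mul_inv_eq_iff_eq_mul.mpr (mem_cent.mp h)
    calc c * a * c⁻¹ = c * ((c⁻¹ * d) * a * (c⁻¹ * d)⁻¹) * c⁻¹ := by rw [h']
      _ = d * a * d⁻¹ := by group)
  have hinj : Function.Injective f := by
    intro x y
    induction x using Quotient.inductionOn'
    induction y using Quotient.inductionOn'
    rename_i c d
    intro (e : c * a * c⁻¹ = d * a * d⁻¹)
    refine Quotient.sound' (QuotientGroup.leftRel_apply.mpr (mem_cent.mpr ?_))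
    calc c⁻¹ * d * a = c⁻¹ * (d * a * d⁻¹) * d := by group
      _ = a * (c⁻¹ * d) := by rw [← e]; group
  have hr : Set.range f = cls a := by
    ext x
    constructor
    · rintro ⟨q, rfl⟩
      induction q using Quotient.inductionOn'
      rename_i c
      exact ⟨c, rfl⟩
    · rintro ⟨c, rfl⟩
      exact ⟨QuotientGroup.mk c, rfl⟩
  rw [← hr, Set.ncard_range_of_injective hinj]
  rfl

theorem mul_mem_cls {a b x y : G} (h : (cs a).Coprime (cs b)) (hx : x ∈ cls a) (hy : y ∈ cls b) :
    x * y ∈ cls (a * b) := by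
  obtain ⟨g, rfl⟩ := hx
  obtain ⟨k, rfl⟩ := hy
  obtain ⟨c, hc⟩ := conj_mul_conj h g k
  exact ⟨c, hc.symm⟩

theorem cs_le_mul {a b : G} (h : (cs a).Coprime (cs b)) : cs a ≤ cs (a * b) := by
  rw [← ncard_cls, ← ncard_cls]
  exact Set.ncard_le_ncard_of_injOn (fun x => x * b) (fun x hx => mul_mem_cls h hx ⟨1, by group⟩)
    (fun x _ y _ e => mul_right_cancel e) (Set.toFinite _)

/-- A subgroup of index prime to `t` contains a conjugate of every Sylow `t`-subgroup. -/
theorem exists_conj_le {t : ℕ} [Fact t.Prime] {A : Subgroup G} (hA : ¬ t ∣ A.index) (T : Sylow t G) :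
    ∃ c : G, ∀ x ∈ (T : Subgroup G), c * x * c⁻¹ ∈ A := by
  obtain ⟨R⟩ : Nonempty (Sylow t A) := inferInstance
  have hc : Nat.card ((R : Subgroup A).map A.subtype) = t ^ (Nat.card G).factorization t := by
    rw [Subgroup.card_subtype, R.card_eq_multiplicity]
    congr 1
    rw [← A.card_mul_index, Nat.factorization_mul Nat.card_pos.ne' index_ne_zero_of_finite, Finsupp.coe_add, Pi.add_apply,
      Nat.factorization_eq_zero_of_not_dvd hA, add_zero]
  obtain ⟨c, hcT⟩ := MulAction.exists_smul_eq G T (Sylow.ofCard ((R : Subgroup A).map A.subtype) hc)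
  refine ⟨c, fun x hx => map_subtype_le _ (show c * x * c⁻¹ ∈ (R : Subgroup A).map A.subtype from ?_)⟩
  have h : c * x * c⁻¹ ∈ ((c • T : Sylow t G) : Subgroup G) := by
    rw [Sylow.coe_subgroup_smul, show c * x * c⁻¹ = (MulAut.conj c) • x from rfl]
    exact Subgroup.smul_mem_pointwise_smul x (MulAut.conj c) _ hx
  rw [hcT] at h
  simpa using h

end Cfsg.Agent.GroupStructure3.ClassGraph
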