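import Cfsg.Agent.GroupStructure3.ClassGraph.Isolated
import Cfsg.Agent.GroupStructure3.PQ.SymThree
import Cfsg.Prelude.Def_Solvable

/-! A disconnected class-size prime graph. -/

set_option autoImplicit false
set_option linter.style.haveILetI false
set_option linter.deprecated false

namespace Cfsg.Agent.GroupStructure3.ClassGraph

open Subgroup
open scoped commutatorElement Pointwise

variable {G : Type*} [Group G] [Finite G]

/-- The side of the graph away from the largest class. -/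
structure Split (x₀ : G) (a₀ : ℕ) (S : Set ℕ) : Prop where
  hmax : ∀ g : G, cs g ≤ cs x₀
  hnc : x₀ ∉ center G
  ha₀ : a₀.Prime
  hdvd₀ : a₀ ∣ cs x₀
  side : ∀ (g : G) (r r' : ℕ), r.Prime → r'.Prime → r ∣ cs g → r' ∣ cs g → (r ∈ S ↔ r' ∈ S)

namespace Split

variable {x₀ : G} {a₀ t : ℕ} {S : Set ℕ}

theorem iso (D : Split x₀ a₀ S) (ht : t.Prime) (hbad : ¬ (t ∈ S ↔ a₀ ∈ S)) : Iso x₀ t :=
  ⟨D.hmax, D.hnc, ht, fun g hg => Nat.coprime_of_dvd fun r hr h1 h2 =>
    hbad ((D.side g t r ht hr hg h2).trans (D.side x₀ r a₀ hr D.ha₀ h1 D.hdvd₀))⟩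

theorem good_of_not_mem (D : Split x₀ a₀ S) {g : G} (hg : g ∉ kerK x₀) {u : ℕ} (hu : u.Prime) (h : u ∣ cs g) :
    u ∈ S ↔ a₀ ∈ S := by
  obtain ⟨r, hr, h1, h2⟩ := Nat.Prime.not_coprime_iff_dvd.mp (not_cop_of_not_mem hg)
  exact (D.side g u r hu hr h h2).trans (D.side x₀ r a₀ hr D.ha₀ h1 D.hdvd₀)

theorem bad_of_mem (D : Split x₀ a₀ S) (ht : t.Prime) (hbad : ¬ (t ∈ S ↔ a₀ ∈ S)) (hv : ∃ g : G, t ∣ cs g) {k : G}
    (hk : k ∈ kerK x₀) {u : ℕ} (hu : u.Prime) (h : u ∣ cs k) : ¬ (u ∈ S ↔ a₀ ∈ S) := by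
  obtain ⟨g, -, h1, h2⟩ := (D.iso ht hbad).exists_dvd_dvd hv hk h
  exact fun hg => hbad ((D.side g t u ht hu h1 h2).trans hg)

theorem center_of_commute (D : Split x₀ a₀ S) (ht : t.Prime) (hbad : ¬ (t ∈ S ↔ a₀ ∈ S)) (hv : ∃ g : G, t ∣ cs g)
    {τ : G} {b : ℕ} (hτb : τ ^ t ^ b = 1) (hτz : τ ∉ center G) {k : G} (hk : k ∈ kerK x₀) (hc : Commute τ k) :
    k ∈ center G := by
  have I := D.iso ht hbad
  haveI := Fact.mk ht
  obtain ⟨a, n, hn, e, hz⟩ := I.exists_pow_center hk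
  have hτK : τ ∉ kerK x₀ := fun h => hτz (I.mem_center_of_pow h hτb)
  set k₁ := k ^ t ^ a
  have hk₁K : k₁ ∈ kerK x₀ := pow_mem hk (t ^ a)
  have hk₁ : orderOf k₁ ∣ n := orderOf_dvd_of_pow_eq_one (by rw [← pow_mul, ← e, pow_orderOf_eq_one])
  have hcop : (orderOf τ).Coprime (orderOf k₁) :=
    (((ht.coprime_iff_not_dvd.mpr hn).pow_left b).coprime_dvd_left (orderOf_dvd_of_pow_eq_one hτb)).coprime_dvd_right hk₁
  have hnot : τ * k₁ ∉ kerK x₀ := fun h => hτK (by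
    have := mul_mem h (inv_mem hk₁K); rwa [mul_inv_cancel_right] at this)
  have hle : centralizer ({k₁} : Set G) ≤ centralizer ({k} : Set G) := by
    intro g hg
    have h1 : k ^ t ^ a ∈ centralizer ({g} : Set G) := mem_cent.mpr (mem_cent.mp hg).symm
    have h2 : k ^ n ∈ centralizer ({g} : Set G) := mem_cent.mpr (mem_center_iff.mp hz g).symm
    exact mem_cent.mpr (mem_cent.mp (mem_of_pow_mem ((ht.coprime_iff_not_dvd.mpr hn).pow_left a) h1 h2)).symm
  rw [← cs_eq_one_iff]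
  refine Nat.eq_one_iff_not_exists_prime_dvd.mpr fun u hu hd => ?_
  refine D.bad_of_mem ht hbad hv hk hu hd (D.good_of_not_mem hnot hu ?_)
  refine hd.trans ((index_dvd_of_le hle).trans (index_dvd_of_le ?_))
  rw [centralizer_mul_eq (hc.pow_right _) hcop]
  exact inf_le_right

theorem pow_eq_one_of_mem {r : ℕ} (R : Sylow r G) {x : G} (hx : x ∈ (R : Subgroup G)) : ∃ b : ℕ, x ^ r ^ b = 1 := by
  obtain ⟨b, hb⟩ := R.2 ⟨x, hx⟩
  exact ⟨b, congrArg Subtype.val hb⟩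

/-- The prime divisors of the index of `kerK` are bad vertices. -/
theorem bad_of_dvd_index (D : Split x₀ a₀ S) (ht : t.Prime) (hbad : ¬ (t ∈ S ↔ a₀ ∈ S)) (hv : ∃ g : G, t ∣ cs g)
    (T : Sylow t G) {s : ℕ} (hs : s.Prime) (hd : s ∣ (kerK x₀).index) :
    ¬ (s ∈ S ↔ a₀ ∈ S) ∧ ∃ g : G, s ∣ cs g := by
  by_contra hns
  have I := D.iso ht hbad
  haveI := Fact.mk ht
  haveI := Fact.mk hs
  set H := centralizer ((T : Subgroup G) : Set G)
  obtain ⟨τ, hτ, hτz⟩ := I.exists_noncentral T hv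
  obtain ⟨bτ, hbτ⟩ := pow_eq_one_of_mem T hτ
  have hHK : ∀ k ∈ kerK x₀, k ∈ H → k ∈ center G := fun k hk h =>
    D.center_of_commute ht hbad hv hbτ hτz hk (mem_centralizer_iff.mp h τ hτ)
  -- an `s`-element of `H` outside `K`
  obtain ⟨b, hbH, hbK, β, hβ⟩ : ∃ b ∈ H, b ∉ kerK x₀ ∧ ∃ β : ℕ, b ^ s ^ β = 1 := by
    rw [index_eq_card] at hd
    obtain ⟨z, hz⟩ := exists_prime_orderOf_dvd_card' s hd
    obtain ⟨g, rfl⟩ := QuotientGroup.mk'_surjective (kerK x₀) z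
    obtain ⟨u, hu, k, hk, rfl⟩ := I.exists_decomp T g
    have hu' : orderOf (QuotientGroup.mk' (kerK x₀) u) = s := by
      rw [← hz, map_mul, show QuotientGroup.mk' (kerK x₀) k = 1 from (QuotientGroup.eq_one_iff k).mpr hk, mul_one]
    obtain ⟨c, n, hn, e⟩ := Nat.exists_eq_pow_mul_and_not_dvd (orderOf_pos u).ne' s hs.ne_one
    refine ⟨u ^ n, pow_mem hu n, fun hmem => hn ?_, c, by rw [← pow_mul, mul_comm n, ← e, pow_orderOf_eq_one]⟩
    rw [← hu']
    exact orderOf_dvd_of_pow_eq_one (by rw [← map_pow]; exact (QuotientGroup.eq_one_iff _).mpr hmem)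
  -- `b` acts without fixed points modulo the centre
  have hfix : ∀ k ∈ kerK x₀, ⁅b⁻¹, k⁻¹⁆ ∈ center G → k ∈ center G := by
    let π := QuotientGroup.mk' (center G)
    have hKc : ∀ k ∈ kerK x₀, ⁅b⁻¹, k⁻¹⁆ ∈ kerK x₀ := fun k hk => by
      rw [show ⁅b⁻¹, k⁻¹⁆ = (b⁻¹ * k⁻¹ * b⁻¹⁻¹) * k by rw [commutatorElement_def]; group]
      exact mul_mem ((kerK_normal x₀).conj_mem _ (inv_mem hk) _) hk
    let ψ : kerK x₀ →* G ⧸ center G := MonoidHom.mk' (fun k => π ⁅b⁻¹, (k : G)⁻¹⁆) (fun y z => by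
      rw [← map_mul]
      refine congrArg π ?_
      show ⁅b⁻¹, ((y : G) * z)⁻¹⁆ = ⁅b⁻¹, (y : G)⁻¹⁆ * ⁅b⁻¹, (z : G)⁻¹⁆
      calc ⁅b⁻¹, ((y : G) * z)⁻¹⁆ = (⁅b⁻¹, (z : G)⁻¹⁆ * (z : G)⁻¹) * ⁅b⁻¹, (y : G)⁻¹⁆ * z := by
            simp only [commutatorElement_def]; group
        _ = ⁅b⁻¹, (y : G)⁻¹⁆ * (⁅b⁻¹, (z : G)⁻¹⁆ * (z : G)⁻¹) * z := by
          rw [kerK_comm D.hmax (mul_mem (hKc z z.2) (inv_mem z.2)) (hKc y y.2)]
        _ = ⁅b⁻¹, (y : G)⁻¹⁆ * ⁅b⁻¹, (z : G)⁻¹⁆ := by group)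
    have hrange : (kerK x₀).map π ≤ ψ.range := by
      rintro _ ⟨k, hk, rfl⟩
      have hnot : b * k⁻¹ ∉ kerK x₀ := fun h => hbK (by simpa using mul_mem h hk)
      obtain ⟨c, hc⟩ := exists_conj_le (I.not_dvd_of_not_mem hnot) T
      obtain ⟨v, hv', k₀, hk₀, e⟩ := I.exists_decomp T c⁻¹
      refine ⟨⟨k₀⁻¹, inv_mem hk₀⟩, ?_⟩
      show π ⁅b⁻¹, k₀⁻¹⁻¹⁆ = π k
      have hH : k₀ * (b * k⁻¹) * k₀⁻¹ ∈ H := by
        refine mem_centralizer_iff.mpr fun x hx => ?_
        have h1 := mem_cent.mp (hc x hx)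
        have hvx : v⁻¹ * x * v = x := by rw [mul_assoc, mem_centralizer_iff.mp hv' x hx, inv_mul_cancel_left]
        have hcx : c * x * c⁻¹ = k₀⁻¹ * x * k₀ := by
          calc c * x * c⁻¹ = c⁻¹⁻¹ * x * c⁻¹ := by rw [inv_inv]
            _ = k₀⁻¹ * (v⁻¹ * x * v) * k₀ := by rw [e]; group
            _ = k₀⁻¹ * x * k₀ := by rw [hvx]
        rw [hcx] at h1
        calc x * (k₀ * (b * k⁻¹) * k₀⁻¹) = k₀ * ((k₀⁻¹ * x * k₀) * (b * k⁻¹)) * k₀⁻¹ := by group
          _ = k₀ * (b * k⁻¹) * k₀⁻¹ * x := by rw [h1]; group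
      have h2 : b⁻¹ * (k₀ * (b * k⁻¹) * k₀⁻¹) = ⁅b⁻¹, k₀⁆ * k⁻¹ := by
        have hkk : k⁻¹ * k₀⁻¹ = k₀⁻¹ * k⁻¹ := kerK_comm D.hmax (inv_mem hk) (inv_mem hk₀)
        calc b⁻¹ * (k₀ * (b * k⁻¹) * k₀⁻¹) = b⁻¹ * k₀ * b * (k⁻¹ * k₀⁻¹) := by group
          _ = ⁅b⁻¹, k₀⁆ * k⁻¹ := by rw [hkk, commutatorElement_def]; group
      have hz : ⁅b⁻¹, k₀⁆ * k⁻¹ ∈ center G := by
        refine hHK _ (mul_mem ?_ (inv_mem hk)) (h2 ▸ mul_mem (inv_mem hbH) hH)
        simpa using hKc k₀⁻¹ (inv_mem hk₀)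
      rw [inv_inv]
      refine mul_inv_eq_one.mp ?_
      rw [← map_inv, ← map_mul]
      exact (QuotientGroup.eq_one_iff _).mpr hz
    have hker : (center G).subgroupOf (kerK x₀) = ψ.ker := by
      refine Subgroup.eq_of_le_of_card_ge (fun y hy => ?_) ?_
      · refine (QuotientGroup.eq_one_iff _).mpr ?_
        have e : ⁅b⁻¹, (y : G)⁻¹⁆ = 1 :=
          commutatorElement_eq_one_iff_mul_comm.mpr (mem_center_iff.mp (inv_mem hy) b⁻¹)
        rw [e]; exact one_mem _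
      · have h1 := ψ.ker.card_mul_index
        have h2 : Nat.card ((kerK x₀).map π) ≤ Nat.card ψ.range := Subgroup.card_le_of_le hrange
        have h3 := ((center G).subgroupOf (kerK x₀)).card_mul_index
        have h4 : Nat.card ((kerK x₀).map π) = ((center G).subgroupOf (kerK x₀)).index := by
          rw [← Subgroup.relIndex_ker (kerK x₀) π, QuotientGroup.ker_mk']; rfl
        rw [Subgroup.index_ker] at h1
        rw [← h4] at h3
        have h5 : Nat.card ψ.ker * Nat.card ((kerK x₀).map π) ≤ Nat.card ψ.ker * Nat.card ψ.range :=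
          Nat.mul_le_mul_left _ h2
        rw [h1, ← h3] at h5
        exact Nat.le_of_mul_le_mul_right h5 Nat.card_pos
    intro k hk hz
    have : (⟨k, hk⟩ : kerK x₀) ∈ (center G).subgroupOf (kerK x₀) := by
      rw [hker]; exact (QuotientGroup.eq_one_iff _).mpr hz
    exact this
  -- a non-central element of `K`
  obtain ⟨y, hy⟩ := hv
  have hyK : y ∈ kerK x₀ := mem_kerK (I.hdvd y hy)
  have hnd : ¬ s ∣ cs y := fun h => hns ⟨D.bad_of_mem ht hbad ⟨y, hy⟩ hyK hs h, y, h⟩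
  obtain ⟨R, hR⟩ := IsPGroup.exists_le_sylow (p := s) (P := zpowers b) (by
    obtain ⟨i, -, hi⟩ := (Nat.dvd_prime_pow hs).mp (orderOf_dvd_of_pow_eq_one (x := b) (n := s ^ β) hβ)
    exact IsPGroup.of_card (n := i) (by rw [Nat.card_zpowers, hi]))
  obtain ⟨c, hc⟩ := exists_conj_le hnd R
  have h1 := mem_cent.mp (hc b (hR (mem_zpowers b)))
  set w := c⁻¹ * y * c⁻¹⁻¹
  have hwK : w ∈ kerK x₀ := (kerK_normal x₀).conj_mem y hyK c⁻¹
  have hwb : Commute b w := by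
    show b * w = w * b
    calc b * w = c⁻¹ * (c * b * c⁻¹ * y) * c := by simp only [w]; group
      _ = w * b := by rw [h1]; simp only [w]; group
  have hwz : w ∈ center G := hfix w hwK (by
    rw [commutatorElement_eq_one_iff_mul_comm.mpr hwb.inv_left.inv_right.eq]; exact one_mem _)
  have hy1 : cs y = 1 := by
    rw [← cs_conj c⁻¹ y]; exact cs_eq_one_iff.mpr hwz
  exact ht.ne_one (Nat.dvd_one.mp (hy1 ▸ hy))

end Split

/-- The conclusion for a disconnected graph. -/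
theorem exists_frobenius (S : Set ℕ) {p q : ℕ} (hpS : p ∈ S) (hqS : q ∉ S) (hp : p.Prime) (hq : q.Prime)
    (hp' : ∃ g : G, p ∣ cs g) (hq' : ∃ g : G, q ∣ cs g)
    (hside : ∀ (g : G) (r r' : ℕ), r.Prime → r'.Prime → r ∣ cs g → r' ∣ cs g → (r ∈ S ↔ r' ∈ S)) :
    ∃ H : Subgroup (G ⧸ center G), Cfsg.IsFrobeniusComplement H ∧ IsMulCommutative H ∧
      ∀ x ∈ Cfsg.frobeniusKernel H, ∀ y ∈ Cfsg.frobeniusKernel H, x * y = y * x := by
  obtain ⟨x₀, hmax⟩ := exists_max_cs G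
  have hnc : x₀ ∉ center G := hp'.elim fun g hg => max_not_central hmax hp hg
  obtain ⟨a₀, ha₀, had⟩ := Nat.exists_prime_and_dvd (fun h => hnc (cs_eq_one_iff.mp h) : cs x₀ ≠ 1)
  have D : Split x₀ a₀ S := ⟨hmax, hnc, ha₀, had, hside⟩
  obtain ⟨t, ht, hbad, hv⟩ : ∃ t : ℕ, t.Prime ∧ ¬ (t ∈ S ↔ a₀ ∈ S) ∧ ∃ g : G, t ∣ cs g := by
    by_cases h : a₀ ∈ S
    · exact ⟨q, hq, fun e => hqS (e.mpr h), hq'⟩
    · exact ⟨p, hp, fun e => h (e.mp hpS), hp'⟩
  have I := D.iso ht hbad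
  haveI := Fact.mk ht
  obtain ⟨T⟩ : Nonempty (Sylow t G) := inferInstance
  obtain ⟨τ, hτ, hτz⟩ := I.exists_noncentral T hv
  obtain ⟨bτ, hbτ⟩ := Split.pow_eq_one_of_mem T hτ
  set H := centralizer ((T : Subgroup G) : Set G) with hHdef
  set K := kerK x₀
  set Z := center G
  have hZH : Z ≤ H := Iso.center_le_centralizer_T T
  have hHK : ∀ k ∈ K, k ∈ H → k ∈ Z := fun k hk h =>
    D.center_of_commute ht hbad hv hbτ hτz hk (mem_centralizer_iff.mp h τ hτ)
  -- `G / K` is abelian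
  have hGK : ∀ a b : G ⧸ K, a * b = b * a := by
    have hc : center (G ⧸ K) = ⊤ := by
      rw [← index_eq_one]
      refine Nat.eq_one_iff_not_exists_prime_dvd.mpr fun s hs hd => ?_
      haveI := Fact.mk hs
      obtain ⟨R⟩ : Nonempty (Sylow s G) := inferInstance
      let π := QuotientGroup.mk' K
      let R' := R.mapSurjective (QuotientGroup.mk'_surjective K)
      refine R'.not_dvd_index (hd.trans (index_dvd_of_le ?_))
      by_cases hdk : s ∣ K.index
      · obtain ⟨hsb, -⟩ := D.bad_of_dvd_index ht hbad hv T hs hdk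
        rw [Sylow.coe_mapSurjective]
        rintro _ ⟨x, hx, rfl⟩
        refine mem_center_iff.mpr fun z => ?_
        obtain ⟨g, rfl⟩ := QuotientGroup.mk'_surjective K z
        obtain ⟨u, hu, k, hk, rfl⟩ := (D.iso hs hsb).exists_decomp R g
        rw [map_mul, show QuotientGroup.mk' K k = 1 from (QuotientGroup.eq_one_iff k).mpr hk, mul_one, ← map_mul,
          ← map_mul, mem_centralizer_iff.mp hu x hx]
      · intro z hz
        have h1 : orderOf z ∣ Nat.card (G ⧸ K) := orderOf_dvd_natCard z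
        obtain ⟨i, hi⟩ := R'.2 ⟨z, hz⟩
        have hi' : z ^ s ^ i = 1 := congrArg Subtype.val hi
        rw [← index_eq_card] at h1
        have hz1 : z = 1 := orderOf_eq_one_iff.mp (Nat.eq_one_of_dvd_coprimes
          ((hs.coprime_iff_not_dvd.mpr hdk).pow_left i) (orderOf_dvd_of_pow_eq_one hi') h1)
        rw [hz1]; exact one_mem _
    exact fun a b => mem_center_iff.mp (hc ▸ mem_top b) a
  -- `H` is abelian
  have hHab : ∀ a ∈ H, ∀ b ∈ H, a * b = b * a := by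
    let f : H →* G ⧸ K := (QuotientGroup.mk' K).comp H.subtype
    haveI : Group.IsNilpotent (G ⧸ K) := by
      haveI : IsMulCommutative (G ⧸ K) := ⟨⟨hGK⟩⟩
      exact Cfsg.Agent.Components.Fitting.isNilpotent_of_isMulCommutative _
    haveI : Group.IsNilpotent H := Subgroup.isNilpotent_of_ker_le_center f (fun x hx => mem_center_iff.mpr fun y =>
      Subtype.ext (mem_center_iff.mp (hHK x ((QuotientGroup.eq_one_iff _).mp (MonoidHom.mem_ker.mp hx)) x.2) y))
    have hcomm : commutator H = ⊥ := Cfsg.Agent.GroupStructure3.PQ.commutator_eq_bot_of_abelian_sylow fun s hs P a ha b hb => by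
      haveI := Fact.mk hs
      refine Subtype.ext ?_
      by_cases hdk : s ∣ K.index
      · obtain ⟨hsb, -⟩ := D.bad_of_dvd_index ht hbad hv T hs hdk
        obtain ⟨R, hR⟩ := (P.2.map H.subtype).exists_le_sylow
        exact mem_centralizer_iff.mp ((D.iso hs hsb).le_centralizer_T R (hR (Subgroup.mem_map_of_mem _ hb))) a
          (hR (Subgroup.mem_map_of_mem _ ha))
      · obtain ⟨i, hi⟩ := P.2 ⟨a, ha⟩
        have hi' : (a : G) ^ s ^ i = 1 := congrArg (fun z : P => ((z : H) : G)) hi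
        have h1 : orderOf (QuotientGroup.mk' K (a : G)) = 1 := by
          refine Nat.eq_one_of_dvd_coprimes ((hs.coprime_iff_not_dvd.mpr hdk).pow_left i)
            (orderOf_dvd_of_pow_eq_one (by rw [← map_pow, hi', map_one])) ?_
          rw [index_eq_card]; exact orderOf_dvd_natCard _
        exact (mem_center_iff.mp (hHK _ ((QuotientGroup.eq_one_iff _).mp (orderOf_eq_one_iff.mp h1)) a.2) b).symm
    intro a ha b hb
    have h := mem_bot.mp (hcomm.le ((_root_.commutator_def H).ge (Subgroup.commutator_mem_commutator (mem_top (⟨a, ha⟩ : H))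
      (mem_top (⟨b, hb⟩ : H)))))
    exact congrArg Subtype.val (commutatorElement_eq_one_iff_mul_comm.mp h)
  have hcent : ∀ w ∈ H, w ∉ Z → centralizer ({w} : Set G) = H := by
    intro w hw hwz
    refine le_antisymm (fun g hg => ?_) fun g hg => mem_cent.mpr (hHab g hg w hw)
    obtain ⟨u, hu, k, hk, rfl⟩ := I.exists_decomp T g
    refine mul_mem hu (hZH ?_)
    have hkw : Commute k w := by
      have h1 : Commute (u * k) w := mem_cent.mp hg
      have h2 : Commute u w := hHab u hu w hw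
      simpa using (h2.inv_left).mul_left h1
    have hwK : w ∉ K := fun h => hwz (hHK w h hw)
    have hne : orderOf (QuotientGroup.mk' K w) ≠ 1 := fun h =>
      hwK ((QuotientGroup.eq_one_iff _).mp (orderOf_eq_one_iff.mp h))
    obtain ⟨s, hs, hsd⟩ := Nat.exists_prime_and_dvd hne
    haveI := Fact.mk hs
    have hdk : s ∣ K.index := by
      rw [index_eq_card]; exact hsd.trans (orderOf_dvd_natCard _)
    obtain ⟨hsb, hsv⟩ := D.bad_of_dvd_index ht hbad hv T hs hdk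
    obtain ⟨c, n, hn, e⟩ := Nat.exists_eq_pow_mul_and_not_dvd (orderOf_pos w).ne' s hs.ne_one
    refine D.center_of_commute hs hsb hsv (τ := w ^ n) (b := c)
      (by rw [← pow_mul, mul_comm n, ← e, pow_orderOf_eq_one]) (fun hmem => hn ?_) hk (hkw.symm.pow_left n)
    refine hsd.trans (orderOf_dvd_of_pow_eq_one ?_)
    rw [← map_pow]
    exact (QuotientGroup.eq_one_iff _).mpr (center_le_kerK x₀ hmem)
  let π := QuotientGroup.mk' Z
  have hmemH : ∀ x : G, π x ∈ H.map π → x ∈ H := by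
    rintro x ⟨h, hh, e⟩
    have h1 : h⁻¹ * x ∈ Z := QuotientGroup.eq.mp e
    have := mul_mem hh (hZH h1)
    rwa [mul_inv_cancel_left] at this
  have hτH : τ ∈ H := I.le_centralizer_T T hτ
  refine ⟨H.map π, ⟨?_, ?_, ?_⟩, ⟨⟨?_⟩⟩, ?_⟩
  · intro h
    have := Subgroup.mem_map_of_mem π hτH
    rw [h, mem_bot] at this
    exact hτz ((QuotientGroup.eq_one_iff _).mp this)
  · intro h
    obtain ⟨y, hy⟩ := hv
    have hyz : y ∉ Z := fun hz => ht.ne_one (Nat.dvd_one.mp (cs_eq_one_iff.mpr hz ▸ hy))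
    exact hyz (hHK y (mem_kerK (I.hdvd y hy)) (hmemH y (h ▸ mem_top _)))
  · intro z hz
    obtain ⟨g, rfl⟩ := QuotientGroup.mk'_surjective Z z
    rw [eq_bot_iff]
    intro y hy
    obtain ⟨hy1, hy2⟩ := mem_inf.mp hy
    obtain ⟨w, hw, rfl⟩ := hy1
    refine mem_bot.mpr ((QuotientGroup.eq_one_iff w).mpr ?_)
    by_contra hwz
    rw [Subgroup.mem_pointwise_smul_iff_inv_smul_mem, MulAut.smul_def] at hy2
    have hy2' : π (g⁻¹ * w * g) ∈ H.map π := by
      rw [map_mul, map_mul, map_inv]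
      rw [MulAut.inv_apply, MulAut.conj_symm_apply] at hy2
      exact hy2
    have hw' := hmemH _ hy2'
    have hwz' : g⁻¹ * w * g ∉ Z := fun h => hwz (by
      have := (inferInstance : Z.Normal).conj_mem _ h g
      rwa [show g * (g⁻¹ * w * g) * g⁻¹ = w by group] at this)
    have hC : ∀ x, x ∈ H → g * x * g⁻¹ ∈ H := by
      intro x hx
      rw [← hcent w hw hwz, mem_cent]
      rw [← hcent _ hw' hwz', mem_cent] at hx
      calc g * x * g⁻¹ * w = g * (x * (g⁻¹ * w * g)) * g⁻¹ := by group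
        _ = w * (g * x * g⁻¹) := by rw [hx]; group
    obtain ⟨u, hu, k, hk, rfl⟩ := I.exists_decomp T g
    have h1 : ⁅k, τ⁆ ∈ H := by
      have h2 := hC τ hτH
      have h3 : u⁻¹ * (u * k * τ * (u * k)⁻¹) * u * τ⁻¹ ∈ H :=
        mul_mem (mul_mem (mul_mem (inv_mem hu) h2) hu) (inv_mem hτH)
      rwa [show u⁻¹ * (u * k * τ * (u * k)⁻¹) * u * τ⁻¹ = ⁅k, τ⁆ by rw [commutatorElement_def]; group] at h3
    have hkz : k ∈ Z := D.center_of_commute ht hbad hv hbτ hτz hk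
      (show Commute τ k from (commutatorElement_eq_one_iff_mul_comm.mp (I.comm_eq_one T hτ hk h1)).symm)
    exact hz (Subgroup.mem_map_of_mem π (mul_mem hu (hZH hkz)))
  · rintro ⟨_, a, ha, rfl⟩ ⟨_, b, hb, rfl⟩
    refine Subtype.ext ?_
    show π a * π b = π b * π a
    rw [← map_mul, ← map_mul, hHab a ha b hb]
  · have hsub : ∀ z ∈ Cfsg.frobeniusKernel (H.map π), ∃ k ∈ K, π k = z := by
      intro z hz
      obtain ⟨x, rfl⟩ := QuotientGroup.mk'_surjective Z z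
      rcases hz with h | h
      · exact ⟨1, one_mem _, by rw [map_one]; exact h.symm⟩
      refine ⟨x, by_contra fun hx => ?_, rfl⟩
      obtain ⟨c, hc⟩ := exists_conj_le (I.not_dvd_of_not_mem hx) T
      refine h (π c) ?_
      rw [Subgroup.mem_pointwise_smul_iff_inv_smul_mem, MulAut.smul_def]
      have hmem : c⁻¹ * x * c ∈ H := mem_centralizer_iff.mpr fun s hs => by
        have h1 := mem_cent.mp (hc s hs)
        calc s * (c⁻¹ * x * c) = c⁻¹ * (c * s * c⁻¹ * x) * c := by group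
          _ = c⁻¹ * x * c * s := by rw [h1]; group
      have := Subgroup.mem_map_of_mem π hmem
      rw [map_mul, map_mul, map_inv] at this
      rw [MulAut.inv_apply, MulAut.conj_symm_apply]
      exact this
    intro a ha b hb
    obtain ⟨x, hx, rfl⟩ := hsub a ha
    obtain ⟨y, hy, rfl⟩ := hsub b hb
    rw [← map_mul, ← map_mul, kerK_comm hmax hx hy]

end Cfsg.Agent.GroupStructure3.ClassGraph
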