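import Cfsg.Agent.GroupStructure3.ClassGraph.Kernel
import Cfsg.Agent.GStructB.Cover

/-!
A prime that only divides class sizes coprime to the largest one.
-/

set_option autoImplicit false
set_option linter.style.haveILetI false
set_option linter.deprecated false

namespace Cfsg.Agent.GroupStructure3.ClassGraph

open Subgroup
open scoped commutatorElement Pointwise

variable {G : Type*} [Group G] [Finite G] {x₀ : G} {t : ℕ}

/-- `t` divides only class sizes coprime to that of `x₀`. -/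
structure Iso (x₀ : G) (t : ℕ) : Prop where
  hmax : ∀ g : G, cs g ≤ cs x₀
  hnc : x₀ ∉ center G
  prime : t.Prime
  hdvd : ∀ g : G, t ∣ cs g → Cop x₀ g

namespace Iso

theorem not_dvd_x₀ (I : Iso x₀ t) : ¬ t ∣ cs x₀ := fun h =>
  I.prime.ne_one (Nat.eq_one_of_dvd_coprimes (I.hdvd x₀ h) h h)

theorem not_dvd_of_not_mem (I : Iso x₀ t) {g : G} (h : g ∉ kerK x₀) : ¬ t ∣ cs g := fun hd =>
  not_cop_of_not_mem h (I.hdvd g hd)

theorem kerK_ne_top (I : Iso x₀ t) : kerK x₀ ≠ ⊤ := fun h => I.hnc (mem_center_iff.mpr fun g =>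
  kerK_comm I.hmax (h ▸ mem_top g) (h ▸ mem_top x₀))

variable (T : Sylow t G)

theorem exists_decomp (I : Iso x₀ t) (g : G) :
    ∃ u ∈ centralizer ((T : Subgroup G) : Set G), ∃ k ∈ kerK x₀, g = u * k := by
  haveI := Fact.mk I.prime
  have htop : centralizer ((T : Subgroup G) : Set G) ⊔ kerK x₀ = ⊤ := by
    refine Cfsg.Agent.GStructB.Cover.eq_top_of_forall_conj _ fun g => ?_
    by_cases hg : g ∈ kerK x₀
    · exact ⟨1, by simpa using mem_sup_right hg⟩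
    obtain ⟨c, hc⟩ := exists_conj_le (I.not_dvd_of_not_mem hg) T
    refine ⟨c, mem_sup_left (mem_centralizer_iff.mpr fun x hx => ?_)⟩
    have h := mem_cent.mp (hc x hx)
    calc x * (c⁻¹ * g * c) = c⁻¹ * (c * x * c⁻¹ * g) * c := by group
      _ = c⁻¹ * g * c * x := by rw [h]; group
  have hg : g ∈ centralizer ((T : Subgroup G) : Set G) ⊔ kerK x₀ := htop ▸ mem_top g
  obtain ⟨u, hu, k, hk, e⟩ := mem_sup_of_normal_right.mp hg
  exact ⟨u, hu, k, hk, e.symm⟩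

theorem mem_center_of_pow (I : Iso x₀ t) {k : G} (hk : k ∈ kerK x₀) {a : ℕ} (ha : k ^ t ^ a = 1) : k ∈ center G := by
  haveI := Fact.mk I.prime
  obtain ⟨T⟩ : Nonempty (Sylow t G) := inferInstance
  let Kt : Subgroup G :=
    { carrier := {y | y ∈ kerK x₀ ∧ ∃ b : ℕ, y ^ t ^ b = 1}
      one_mem' := ⟨one_mem _, 0, one_pow _⟩
      mul_mem' := fun {y z} ⟨hy, b, eb⟩ ⟨hz, c, ec⟩ => ⟨mul_mem hy hz, b + c, by
        rw [(show Commute y z from kerK_comm I.hmax hy hz).mul_pow, pow_add, pow_mul, eb, one_pow, one_mul,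
          mul_comm (t ^ b), pow_mul, ec, one_pow]⟩
      inv_mem' := fun {y} ⟨hy, b, eb⟩ => ⟨inv_mem hy, b, by rw [inv_pow, eb, inv_one]⟩ }
  haveI : Kt.Normal := ⟨fun y ⟨hy, b, eb⟩ g => ⟨(kerK_normal x₀).conj_mem y hy g, b, by
    rw [conj_pow, eb, mul_one, mul_inv_cancel]⟩⟩
  have hKt : IsPGroup t Kt := fun ⟨y, hy, b, eb⟩ => ⟨b, Subtype.ext eb⟩
  have hkT : k ∈ (T : Subgroup G) := hKt.le_sylow_of_normal T ⟨hk, a, ha⟩
  refine mem_center_iff.mpr fun g => ?_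
  obtain ⟨u, hu, k', hk', rfl⟩ := I.exists_decomp T g
  exact ((show Commute u k from (mem_centralizer_iff.mp hu k hkT).symm).mul_left (kerK_comm I.hmax hk' hk)).eq

theorem exists_pow_center (I : Iso x₀ t) {k : G} (hk : k ∈ kerK x₀) :
    ∃ a n : ℕ, ¬ t ∣ n ∧ orderOf k = t ^ a * n ∧ k ^ n ∈ center G := by
  obtain ⟨a, n, hn, e⟩ := Nat.exists_eq_pow_mul_and_not_dvd (orderOf_pos k).ne' t I.prime.ne_one
  refine ⟨a, n, hn, e, I.mem_center_of_pow (pow_mem hk n) (a := a) ?_⟩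
  rw [← pow_mul, mul_comm n, ← e, pow_orderOf_eq_one]

theorem le_centralizer_T (I : Iso x₀ t) : (T : Subgroup G) ≤ centralizer ((T : Subgroup G) : Set G) := by
  haveI := Fact.mk I.prime
  intro s hs
  obtain ⟨u, hu, k, hk, e⟩ := I.exists_decomp T s
  obtain ⟨a, n, hn, -, hz⟩ := I.exists_pow_center hk
  have hus : Commute u s := (mem_centralizer_iff.mp hu s hs).symm
  have hek : k = u⁻¹ * s := by rw [e]; group
  have hn' : s ^ n ∈ centralizer ((T : Subgroup G) : Set G) := by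
    have e' : s ^ n = u ^ n * k ^ n := by
      rw [hek, hus.inv_left.mul_pow, inv_pow, mul_inv_cancel_left]
    rw [e']
    exact mul_mem (pow_mem hu n) (mem_centralizer_iff.mpr fun y _ => mem_center_iff.mp hz y)
  obtain ⟨b, hb⟩ := T.2 ⟨s, hs⟩
  have hb' : s ^ t ^ b = 1 := congrArg Subtype.val hb
  exact mem_of_pow_mem ((I.prime.coprime_iff_not_dvd.mpr hn).symm.pow_right b) hn' (hb' ▸ one_mem _)

theorem center_le_centralizer_T : center G ≤ centralizer ((T : Subgroup G) : Set G) := fun _ hz =>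
  mem_centralizer_iff.mpr fun y _ => mem_center_iff.mp hz y

theorem mem_centralizer_of_not_dvd (I : Iso x₀ t) {k : G} (hk : k ∈ kerK x₀) (hd : ¬ t ∣ cs k) :
    k ∈ centralizer ((T : Subgroup G) : Set G) := by
  haveI := Fact.mk I.prime
  obtain ⟨c, hc⟩ := exists_conj_le hd T
  refine mem_centralizer_iff.mpr fun x hx => ?_
  obtain ⟨u, hu, k₀, hk₀, e⟩ := I.exists_decomp T c⁻¹
  have hc' : c = k₀⁻¹ * u⁻¹ := by rw [← mul_inv_rev, ← e, inv_inv]
  have h := mem_cent.mp (hc x hx)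
  have hux : u⁻¹ * x * u = x := by
    rw [mul_assoc, mem_centralizer_iff.mp hu x hx, inv_mul_cancel_left]
  have e1 : c * x * c⁻¹ = k₀⁻¹ * x * k₀ := by
    calc c * x * c⁻¹ = k₀⁻¹ * (u⁻¹ * x * u) * k₀ := by rw [hc']; group
      _ = k₀⁻¹ * x * k₀ := by rw [hux]
  rw [e1] at h
  have hk0 : k₀ * k = k * k₀ := kerK_comm I.hmax hk₀ hk
  have hk0' : k₀ * k * k₀⁻¹ = k := by rw [hk0, mul_inv_cancel_right]
  calc x * k = x * (k₀ * k * k₀⁻¹) := by rw [hk0']
    _ = k₀ * ((k₀⁻¹ * x * k₀) * k) * k₀⁻¹ := by group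
    _ = k₀ * k * k₀⁻¹ * x := by rw [h]; group
    _ = k * x := by rw [hk0']

theorem mem_centralizer_of_commute (I : Iso x₀ t) {τ : G} (hτ : τ ∈ (T : Subgroup G)) (hτz : τ ∉ center G) {k : G}
    (hk : k ∈ kerK x₀) (hc : Commute τ k) : k ∈ centralizer ((T : Subgroup G) : Set G) := by
  haveI := Fact.mk I.prime
  obtain ⟨a, n, hn, e, hz⟩ := I.exists_pow_center hk
  obtain ⟨b, hb⟩ := T.2 ⟨τ, hτ⟩
  have hb' : τ ^ t ^ b = 1 := congrArg Subtype.val hb
  have hτK : τ ∉ kerK x₀ := fun h => hτz (I.mem_center_of_pow h hb')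
  set k₁ := k ^ t ^ a
  have hk₁ : orderOf k₁ ∣ n := orderOf_dvd_of_pow_eq_one (by rw [← pow_mul, ← e, pow_orderOf_eq_one])
  have hcop : (orderOf τ).Coprime (orderOf k₁) :=
    (((I.prime.coprime_iff_not_dvd.mpr hn).pow_left b).coprime_dvd_left (orderOf_dvd_of_pow_eq_one hb')).coprime_dvd_right hk₁
  have hk₁K : k₁ ∈ kerK x₀ := pow_mem hk (t ^ a)
  have hnot : τ * k₁ ∉ kerK x₀ := fun h => hτK (by
    have := mul_mem h (inv_mem hk₁K); rwa [mul_inv_cancel_right] at this)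
  have hd : ¬ t ∣ cs k₁ := fun h => I.not_dvd_of_not_mem hnot (h.trans (by
    refine index_dvd_of_le ?_
    rw [centralizer_mul_eq (hc.pow_right _) hcop]
    exact inf_le_right))
  exact mem_of_pow_mem ((I.prime.coprime_iff_not_dvd.mpr hn).pow_left a)
    (I.mem_centralizer_of_not_dvd T (pow_mem hk _) hd) (center_le_centralizer_T T hz)

theorem centralizer_eq (I : Iso x₀ t) {τ : G} (hτ : τ ∈ (T : Subgroup G)) (hτz : τ ∉ center G) :
    centralizer ({τ} : Set G) = centralizer ((T : Subgroup G) : Set G) := by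
  refine le_antisymm (fun x hx => ?_) (centralizer_le (Set.singleton_subset_iff.mpr hτ))
  obtain ⟨u, hu, k, hk, rfl⟩ := I.exists_decomp T x
  refine mul_mem hu (I.mem_centralizer_of_commute T hτ hτz hk ?_)
  have h1 : Commute (u * k) τ := mem_cent.mp hx
  have h2 : Commute u τ := (mem_centralizer_iff.mp hu τ hτ).symm
  simpa using ((h2.inv_left).mul_left h1).symm

/-- The map `k ↦ [k, τ]` on `K`. -/
theorem comm_mem (I : Iso x₀ t) {k : G} (hk : k ∈ kerK x₀) (τ : G) : ⁅k, τ⁆ ∈ kerK x₀ := by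
  rw [show ⁅k, τ⁆ = k * (τ * k⁻¹ * τ⁻¹) by rw [commutatorElement_def]; group]
  exact mul_mem hk ((kerK_normal x₀).conj_mem _ (inv_mem hk) τ)

theorem comm_mul (I : Iso x₀ t) {k k' : G} (hk : k ∈ kerK x₀) (hk' : k' ∈ kerK x₀) (τ : G) :
    ⁅k * k', τ⁆ = ⁅k, τ⁆ * ⁅k', τ⁆ := by
  rw [commutatorElement_mul_left_eq_conj_mul, kerK_comm I.hmax hk (I.comm_mem hk' τ), mul_inv_cancel_right]
  exact kerK_comm I.hmax (I.comm_mem hk' τ) (I.comm_mem hk τ)

theorem comm_eq_one (I : Iso x₀ t) {τ k : G} (hτ : τ ∈ (T : Subgroup G)) (hk : k ∈ kerK x₀)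
    (h : ⁅k, τ⁆ ∈ centralizer ((T : Subgroup G) : Set G)) : ⁅k, τ⁆ = 1 := by
  haveI := Fact.mk I.prime
  set d := ⁅k, τ⁆ with hd
  have hdτ : τ * d * τ⁻¹ = d := mul_inv_eq_iff_eq_mul.mpr (mem_centralizer_iff.mp h τ hτ)
  have hdk : d * k = k * d := kerK_comm I.hmax (I.comm_mem hk τ) hk
  have hstep : τ * k * τ⁻¹ = d⁻¹ * k := by
    rw [hd, commutatorElement_def]; group
  have hiter : ∀ j : ℕ, τ ^ j * k * (τ ^ j)⁻¹ = d⁻¹ ^ j * k := by
    intro j
    induction j with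
    | zero => simp
    | succ j ih =>
      calc τ ^ (j + 1) * k * (τ ^ (j + 1))⁻¹ = τ * (τ ^ j * k * (τ ^ j)⁻¹) * τ⁻¹ := by rw [pow_succ']; group
        _ = (τ * d⁻¹ ^ j * τ⁻¹) * (τ * k * τ⁻¹) := by rw [ih]; group
        _ = d⁻¹ ^ (j + 1) * k := by
          rw [hstep, ← conj_pow, show τ * d⁻¹ * τ⁻¹ = d⁻¹ by rw [show τ * d⁻¹ * τ⁻¹ = (τ * d * τ⁻¹)⁻¹ by group, hdτ], pow_succ, mul_assoc]
  obtain ⟨b, hb⟩ := T.2 ⟨τ, hτ⟩
  have hb' : τ ^ t ^ b = 1 := congrArg Subtype.val hb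
  have h1 : d ^ t ^ b = 1 := by
    have := hiter (t ^ b)
    rw [hb', inv_one, one_mul, mul_one] at this
    have h' := right_eq_mul.mp this
    rwa [inv_pow, inv_eq_one] at h'
  obtain ⟨a, n, hn, -, hz⟩ := I.exists_pow_center hk
  have hpow : ∀ j : ℕ, ⁅k ^ j, τ⁆ = d ^ j := by
    intro j
    induction j with
    | zero => simp
    | succ j ih => rw [pow_succ, I.comm_mul (pow_mem hk j) hk, ih, pow_succ]
  have h2 : d ^ n = 1 := by
    rw [← hpow, commutatorElement_eq_one_iff_mul_comm]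
    exact (mem_center_iff.mp hz τ).symm
  exact orderOf_eq_one_iff.mp (Nat.eq_one_of_dvd_coprimes ((I.prime.coprime_iff_not_dvd.mpr hn).pow_left b)
    (orderOf_dvd_of_pow_eq_one h1) (orderOf_dvd_of_pow_eq_one h2))

/-- `K ∩ C(T)` and `[K, τ]` are independent, so centralisers intersect. -/
theorem centralizer_mul_le (I : Iso x₀ t) {τ : G} (hτ : τ ∈ (T : Subgroup G)) {k k₁ : G} (hk : k ∈ kerK x₀)
    (hkT : k ∈ centralizer ((T : Subgroup G) : Set G)) (hk₁ : k₁ ∈ kerK x₀) :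
    centralizer ({k * ⁅k₁, τ⁆} : Set G) ≤ centralizer ({k} : Set G) := by
  intro g hg
  obtain ⟨u, hu, k₀, hk₀, rfl⟩ := I.exists_decomp T g
  have hmem : ∀ y ∈ kerK x₀, Commute k₀ y := fun y hy => kerK_comm I.hmax hk₀ hy
  set m := ⁅k₁, τ⁆ with hm
  have hmK := I.comm_mem hk₁ τ
  have e0 : u * (k * m) = k * m * u := by
    have h : Commute (u * k₀) (k * m) := mem_cent.mp hg
    have h2 : Commute k₀ (k * m) := hmem _ (mul_mem hk hmK)
    have := h.mul_left h2.inv_left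
    simpa using this.eq
  have huτ : u * τ * u⁻¹ = τ := mul_inv_eq_iff_eq_mul.mpr (mem_centralizer_iff.mp hu τ hτ).symm
  set k₂ := u * k₁ * u⁻¹
  have hk₂ : k₂ ∈ kerK x₀ := (kerK_normal x₀).conj_mem _ hk₁ u
  have hum : u * m * u⁻¹ = ⁅k₂, τ⁆ := by
    rw [hm]
    conv_rhs => rw [← huτ]
    simp only [k₂, commutatorElement_def]; group
  have e1 : (u * k * u⁻¹) * ⁅k₂, τ⁆ = k * m := by
    rw [← hum]
    calc u * k * u⁻¹ * (u * m * u⁻¹) = u * (k * m) * u⁻¹ := by group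
      _ = k * m := by rw [e0]; group
  have hd : k⁻¹ * (u * k * u⁻¹) = ⁅k₁ * k₂⁻¹, τ⁆ := by
    have h2 : ⁅k₂⁻¹, τ⁆ = (⁅k₂, τ⁆)⁻¹ := by
      apply eq_inv_of_mul_eq_one_left
      rw [← I.comm_mul (inv_mem hk₂) hk₂, inv_mul_cancel, commutatorElement_one_left]
    rw [I.comm_mul hk₁ (inv_mem hk₂), h2, ← hm]
    calc k⁻¹ * (u * k * u⁻¹) = k⁻¹ * ((u * k * u⁻¹) * ⁅k₂, τ⁆) * (⁅k₂, τ⁆)⁻¹ := by group
      _ = m * (⁅k₂, τ⁆)⁻¹ := by rw [e1, inv_mul_cancel_left]
  have h1 : ⁅k₁ * k₂⁻¹, τ⁆ = 1 := by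
    refine I.comm_eq_one T hτ (mul_mem hk₁ (inv_mem hk₂)) (hd ▸ mul_mem (inv_mem hkT) ?_)
    exact mul_mem (mul_mem hu hkT) (inv_mem hu)
  rw [h1, inv_mul_eq_one] at hd
  refine mem_cent.mpr ((Commute.mul_left (show Commute u k from mul_inv_eq_iff_eq_mul.mp hd.symm) (hmem k hk)).eq)

theorem mul_comm_not_mem (I : Iso x₀ t) {τ : G} (hτ : τ ∈ (T : Subgroup G)) {k k₁ : G}
    (hkT : k ∈ centralizer ((T : Subgroup G) : Set G)) (hk₁ : k₁ ∈ kerK x₀)
    (h1 : ¬ Commute k₁ τ) : k * ⁅k₁, τ⁆ ∉ centralizer ((T : Subgroup G) : Set G) := fun h => h1 (by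
  have h2 := mul_mem (inv_mem hkT) h
  rw [inv_mul_cancel_left] at h2
  exact commutatorElement_eq_one_iff_mul_comm.mp (I.comm_eq_one T hτ hk₁ h2))

theorem exists_noncentral (I : Iso x₀ t) (hv : ∃ g : G, t ∣ cs g) : ∃ τ ∈ (T : Subgroup G), τ ∉ center G := by
  haveI := Fact.mk I.prime
  obtain ⟨g, hg⟩ := hv
  by_contra h
  push Not at h
  refine T.not_dvd_index (hg.trans (index_dvd_of_le fun x hx => mem_cent.mpr ?_))
  exact (mem_center_iff.mp (h x hx) g).symm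

theorem dvd_cs (I : Iso x₀ t) {k : G} (hk : k ∈ kerK x₀) (h : k ∉ centralizer ((T : Subgroup G) : Set G)) : t ∣ cs k := by
  by_contra hd
  exact h (I.mem_centralizer_of_not_dvd T hk hd)

theorem exists_not_commute (I : Iso x₀ t) {τ : G} (hτ : τ ∈ (T : Subgroup G)) (hτz : τ ∉ center G) :
    ∃ k ∈ kerK x₀, ¬ Commute k τ := by
  by_contra h
  push Not at h
  refine hτz (mem_center_iff.mpr fun g => ?_)
  obtain ⟨u, hu, k, hk, rfl⟩ := I.exists_decomp T g
  exact ((show Commute u τ from (mem_centralizer_iff.mp hu τ hτ).symm).mul_left (h k hk)).eq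

/-- `t` shares a class with every prime of a class inside `K`. -/
theorem exists_dvd_dvd (I : Iso x₀ t) (hv : ∃ g : G, t ∣ cs g) {k : G} (hk : k ∈ kerK x₀) {u : ℕ} (hu : u ∣ cs k) :
    ∃ g ∈ kerK x₀, t ∣ cs g ∧ u ∣ cs g := by
  haveI := Fact.mk I.prime
  obtain ⟨T⟩ : Nonempty (Sylow t G) := inferInstance
  obtain ⟨τ, hτ, hτz⟩ := I.exists_noncentral T hv
  by_cases hkT : k ∈ centralizer ((T : Subgroup G) : Set G)
  swap
  · exact ⟨k, hk, I.dvd_cs T hk hkT, hu⟩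
  obtain ⟨k₁, hk₁, hnc⟩ := I.exists_not_commute T hτ hτz
  exact ⟨k * ⁅k₁, τ⁆, mul_mem hk (I.comm_mem hk₁ τ),
    I.dvd_cs T (mul_mem hk (I.comm_mem hk₁ τ)) (I.mul_comm_not_mem T hτ hkT hk₁ hnc),
    hu.trans (index_dvd_of_le (I.centralizer_mul_le T hτ hk hkT hk₁))⟩

/-- Every prime dividing the index of `C(T)` divides the largest class size. -/
theorem dvd_index (I : Iso x₀ t) {τ : G} (hτ : τ ∈ (T : Subgroup G)) (hτz : τ ∉ center G) {r : ℕ} (hr : r.Prime)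
    (hd : r ∣ (centralizer ((T : Subgroup G) : Set G)).index) : r ∣ cs x₀ := by
  haveI := Fact.mk hr
  set C := centralizer ((T : Subgroup G) : Set G)
  have htop : C ⊔ kerK x₀ = ⊤ := eq_top_iff.mpr fun g _ => by
    obtain ⟨u, hu, k, hk, rfl⟩ := I.exists_decomp T g
    exact mul_mem_sup hu hk
  let δ : kerK x₀ →* G := MonoidHom.mk' (fun k => ⁅(k : G), τ⁆) (fun a b => I.comm_mul a.2 b.2 τ)
  have hker : δ.ker = C.subgroupOf (kerK x₀) := by
    ext k
    rw [MonoidHom.mem_ker, Subgroup.mem_subgroupOf]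
    show ⁅(k : G), τ⁆ = 1 ↔ _
    rw [commutatorElement_eq_one_iff_mul_comm]
    constructor
    · exact fun h => I.mem_centralizer_of_commute T hτ hτz k.2 (show Commute τ (k : G) from h.symm)
    · exact fun h => (mem_centralizer_iff.mp h τ hτ).symm
  have hidx : C.index = Nat.card δ.range := by
    rw [← Subgroup.index_ker, hker, ← relIndex_top_right, ← htop, sup_comm]
    show C.relIndex (kerK x₀ ⊔ C) = C.relIndex (kerK x₀)
    have h1 : C.relIndex (kerK x₀ ⊔ C) ≠ 0 := (index_ne_zero_of_finite (H := C.subgroupOf _))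
    refine Nat.eq_of_mul_eq_mul_left (Nat.card_pos (α := C)) ?_
    have e1 := Subgroup.relIndex_mul_relIndex ⊥ C (kerK x₀ ⊔ C) bot_le le_sup_right
    have e2 := Cfsg.Agent.Cores.card_sup_mul_card_inf C (kerK x₀)
    have e3 := Subgroup.relIndex_mul_relIndex ⊥ (C ⊓ kerK x₀) (kerK x₀) bot_le inf_le_right
    rw [relIndex_bot_left, relIndex_bot_left] at e1 e3
    rw [inf_relIndex_right] at e3
    rw [sup_comm] at e2
    refine Nat.eq_of_mul_eq_mul_left (Nat.card_pos (α := (C ⊓ kerK x₀ : Subgroup G))) ?_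
    calc Nat.card (C ⊓ kerK x₀ : Subgroup G) * (Nat.card C * C.relIndex (kerK x₀ ⊔ C))
        = Nat.card (kerK x₀ ⊔ C : Subgroup G) * Nat.card (C ⊓ kerK x₀ : Subgroup G) := by rw [e1, mul_comm]
      _ = Nat.card C * Nat.card (kerK x₀) := e2
      _ = Nat.card (C ⊓ kerK x₀ : Subgroup G) * (Nat.card C * C.relIndex (kerK x₀)) := by rw [← e3]; ring
  rw [hidx] at hd
  obtain ⟨⟨m, hm⟩, hmo⟩ := exists_prime_orderOf_dvd_card' r hd
  obtain ⟨k, rfl⟩ := hm
  have hmo' : orderOf ⁅(k : G), τ⁆ = r := (Subgroup.orderOf_coe _).trans hmo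
  exact dvd_of_commutator I.hmax k.2 hr (dvd_of_eq hmo'.symm)

theorem index_ne_one (I : Iso x₀ t) {τ : G} (hτ : τ ∈ (T : Subgroup G)) (hτz : τ ∉ center G) :
    (centralizer ((T : Subgroup G) : Set G)).index ≠ 1 := by
  rw [← I.centralizer_eq T hτ hτz]
  exact fun h => hτz (cs_eq_one_iff.mp h)

/-- A prime outside the largest class size dividing a class outside `K` shares a class with `|G : C(T)|`. -/
theorem exists_dvd_index (I : Iso x₀ t) {τ : G} (hτ : τ ∈ (T : Subgroup G)) (hτz : τ ∉ center G) {q : ℕ}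
    {x : G} (hx : x ∉ kerK x₀) (hqx : q ∣ cs x) :
    ∃ g : G, q ∣ cs g ∧ (centralizer ((T : Subgroup G) : Set G)).index ∣ cs g := by
  haveI := Fact.mk I.prime
  set C := centralizer ((T : Subgroup G) : Set G) with hC
  obtain ⟨c, hc⟩ := exists_conj_le (I.not_dvd_of_not_mem hx) T
  set y := c⁻¹ * x * c⁻¹⁻¹
  have hy : cs y = cs x := cs_conj c⁻¹ x
  have hyC : y ∈ C := mem_centralizer_iff.mpr fun s hs => by
    have h := mem_cent.mp (hc s hs)
    calc s * y = c⁻¹ * (c * s * c⁻¹ * x) * c := by simp only [y]; group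
      _ = y * s := by rw [h]; simp only [y]; group
  obtain ⟨a, n, hn, e⟩ := Nat.exists_eq_pow_mul_and_not_dvd (orderOf_pos y).ne' t I.prime.ne_one
  have hyn : y ^ n ∈ (T : Subgroup G) := by
    have hp : IsPGroup t (zpowers (y ^ n)) := by
      obtain ⟨i, -, hi⟩ := (Nat.dvd_prime_pow I.prime).mp (orderOf_dvd_of_pow_eq_one (x := y ^ n) (n := t ^ a)
        (by rw [← pow_mul, mul_comm n, ← e, pow_orderOf_eq_one]))
      exact IsPGroup.of_card (n := i) (by rw [Nat.card_zpowers, hi])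
    have hsup : IsPGroup t ((T : Subgroup G) ⊔ zpowers (y ^ n) : Subgroup G) := T.2.to_sup_of_normal_left' hp
      (zpowers_le.mpr (centralizer_le_normalizer _ (pow_mem hyC n)))
    rw [← T.3 hsup le_sup_left]
    exact mem_sup_right (mem_zpowers _)
  set y₁ := y ^ t ^ a
  have hy₁o : orderOf y₁ ∣ n := orderOf_dvd_of_pow_eq_one (by rw [← pow_mul, ← e, pow_orderOf_eq_one])
  have hinter : C ⊓ centralizer ({y₁} : Set G) ≤ centralizer ({y} : Set G) := by
    intro g hg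
    have h1 : y ^ t ^ a ∈ centralizer ({g} : Set G) := mem_cent.mpr (mem_cent.mp hg.2).symm
    have h2 : y ^ n ∈ centralizer ({g} : Set G) := mem_cent.mpr (mem_centralizer_iff.mp hg.1 _ hyn)
    exact mem_cent.mpr (mem_cent.mp (mem_of_pow_mem ((I.prime.coprime_iff_not_dvd.mpr hn).pow_left a) h1 h2)).symm
  obtain ⟨b, hb⟩ := T.2 ⟨τ, hτ⟩
  have hb' : τ ^ t ^ b = 1 := congrArg Subtype.val hb
  have hcop : (orderOf τ).Coprime (orderOf y₁) :=
    (((I.prime.coprime_iff_not_dvd.mpr hn).pow_left b).coprime_dvd_left (orderOf_dvd_of_pow_eq_one hb')).coprime_dvd_right hy₁o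
  have hcomm : Commute τ y₁ := (show Commute τ y from mem_centralizer_iff.mp hyC τ hτ).pow_right _
  refine ⟨τ * y₁, ?_, ?_⟩
  · rw [cs, centralizer_mul_eq hcomm hcop, I.centralizer_eq T hτ hτz]
    exact (hy ▸ hqx).trans (index_dvd_of_le hinter)
  · rw [cs, centralizer_mul_eq hcomm hcop, I.centralizer_eq T hτ hτz]
    exact index_dvd_of_le inf_le_left

end Iso

end Cfsg.Agent.GroupStructure3.ClassGraph

namespace Cfsg.Agent.GroupStructure3.ClassGraph

open Subgroup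

variable {G : Type*} [Group G] [Finite G] {x₀ : G} {t : ℕ}

theorem Iso.cop_of_mem (I : Iso x₀ t) (hv : ∃ g : G, t ∣ cs g) {k : G} (hk : k ∈ kerK x₀) : Cop x₀ k := by
  refine Nat.coprime_of_dvd fun r hr h1 h2 => ?_
  obtain ⟨g, -, hg1, hg2⟩ := I.exists_dvd_dvd hv hk h2
  exact hr.ne_one (Nat.eq_one_of_dvd_coprimes (I.hdvd g hg1) h1 hg2)

theorem exists_max_cs (G : Type*) [Group G] [Finite G] : ∃ x₀ : G, ∀ g : G, cs g ≤ cs x₀ :=
  Finite.exists_max (cs : G → ℕ)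

theorem max_not_central {x₀ : G} (hmax : ∀ g : G, cs g ≤ cs x₀) {g : G} {p : ℕ} (hp : p.Prime) (hg : p ∣ cs g) :
    x₀ ∉ center G := fun h => by
  have h1 := hmax g
  rw [cs_eq_one_iff.mpr h] at h1
  have := Nat.le_of_dvd (Nat.pos_of_ne_zero (cs_ne_zero g)) hg
  have := hp.two_le
  omega

end Cfsg.Agent.GroupStructure3.ClassGraph
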