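import Cfsg.Agent.GroupStructure3.ClassGraph.Basic

/-!
Classes of size coprime to the largest one generate, with the centre, an abelian normal subgroup.
-/

set_option autoImplicit false
set_option linter.style.haveILetI false
set_option linter.deprecated false

namespace Cfsg.Agent.GroupStructure3.ClassGraph

open Subgroup
open scoped commutatorElement Pointwise

variable {G : Type*} [Group G]

/-- The subgroup `[b, G]`. -/
def brG (b : G) : Subgroup G := closure {x | ∃ g : G, x = ⁅b, g⁆}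

theorem mem_brG (b g : G) : ⁅b, g⁆ ∈ brG b := subset_closure ⟨g, rfl⟩

instance brG_normal (b : G) : (brG b).Normal := ⟨fun x hx g => by
  refine closure_induction (p := fun y _ => g * y * g⁻¹ ∈ brG b) ?_ ?_ ?_ ?_ hx
  · rintro _ ⟨k, rfl⟩
    rw [show g * ⁅b, k⁆ * g⁻¹ = ⁅b, g⁆⁻¹ * ⁅b, g * k⁆ by simp only [commutatorElement_def]; group]
    exact mul_mem (inv_mem (mem_brG b g)) (mem_brG b _)
  · simp
  · intro y z _ _ hy hz
    rw [show g * (y * z) * g⁻¹ = (g * y * g⁻¹) * (g * z * g⁻¹) by group]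
    exact mul_mem hy hz
  · intro y _ hy
    rw [show g * y⁻¹ * g⁻¹ = (g * y * g⁻¹)⁻¹ by group]
    exact inv_mem hy⟩

/-- `b` has class size coprime to that of `x₀`. -/
def Cop (x₀ b : G) : Prop := (cs x₀).Coprime (cs b)

/-- The subgroup generated by the centre and the prime power elements of coprime class size. -/
noncomputable def kerK (x₀ : G) : Subgroup G :=
  closure ((center G : Set G) ∪ {b | ∃ r : ℕ, r.Prime ∧ IsPGroup r (zpowers b) ∧ Cop x₀ b})

variable [Finite G] {x₀ : G}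

theorem Cop.of_dvd {b c : G} (h : Cop x₀ b) (hd : cs c ∣ cs b) : Cop x₀ c := h.coprime_dvd_right hd

theorem center_le_kerK (x₀ : G) : center G ≤ kerK x₀ := fun _ hx => subset_closure (Or.inl hx)

theorem mem_kerK {b : G} (h : Cop x₀ b) : b ∈ kerK x₀ := by
  have hle : zpowers b ≤ kerK x₀ := by
    rw [← subgroupOf_eq_top, ← index_eq_one]
    refine Nat.eq_one_iff_not_exists_prime_dvd.mpr fun r hr hd => ?_
    haveI := Fact.mk hr
    obtain ⟨S⟩ : Nonempty (Sylow r (zpowers b)) := inferInstance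
    refine S.not_dvd_index (hd.trans (index_dvd_of_le fun s hs => ?_))
    refine subset_closure (Or.inr ⟨r, hr, ?_, ?_⟩)
    · have hmap : IsPGroup r ((S : Subgroup (zpowers b)).map (zpowers b).subtype) := S.2.map _
      exact hmap.to_le (zpowers_le.mpr (Subgroup.mem_map_of_mem _ hs))
    · obtain ⟨i, hi⟩ := mem_powers_iff_mem_zpowers.mpr s.2
      have e : cs (s : G) ∣ cs b := (show b ^ i = (s : G) from hi) ▸ cs_pow_dvd b i
      exact h.of_dvd e
  exact hle (mem_zpowers b)

theorem not_cop_of_not_mem {g : G} (h : g ∉ kerK x₀) : ¬ Cop x₀ g := fun hc => h (mem_kerK hc)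

variable (hmax : ∀ g : G, cs g ≤ cs x₀)
include hmax

theorem card_brG_dvd {b : G} (hb : Cop x₀ b) : Nat.card (brG b) ∣ cs x₀ := by
  have hb' : (cs x₀).Coprime (cs b⁻¹) := by rwa [cs_inv]
  have hEd : cs (x₀ * b) = cs x₀ := le_antisymm (hmax _) (cs_le_mul hb)
  have hE : (cs (x₀ * b)).Coprime (cs b⁻¹) := by rw [hEd]; exact hb'
  let S : Subgroup G :=
    { carrier := {n | ∀ z, z ∈ cls x₀ ↔ z * n ∈ cls x₀}
      one_mem' := fun z => by rw [mul_one]
      mul_mem' := fun {m n} hm hn z => (hm z).trans (by rw [← mul_assoc]; exact hn (z * m))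
      inv_mem' := fun {n} hn z => by
        have := hn (z * n⁻¹)
        rw [inv_mul_cancel_right] at this
        exact this.symm }
  have hstep : ∀ g k : G, ∀ z ∈ cls x₀, z * (g * b * g⁻¹ * (k * b⁻¹ * k⁻¹)) ∈ cls x₀ := by
    intro g k z hz
    have h1 := mul_mem_cls hb hz (⟨g, rfl⟩ : g * b * g⁻¹ ∈ cls b)
    have h2 := mul_mem_cls hE h1 (⟨k, rfl⟩ : k * b⁻¹ * k⁻¹ ∈ cls b⁻¹)
    rw [mul_inv_cancel_right, mul_assoc] at h2
    exact h2
  have hle : brG b ≤ S := by
    rw [brG, closure_le]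
    rintro _ ⟨g, rfl⟩
    intro z
    constructor
    · intro hz
      have := hstep 1 g z hz
      simpa [commutatorElement_def, mul_assoc] using this
    · intro hz
      have := hstep g 1 _ hz
      simpa [commutatorElement_def, mul_assoc] using this
  have hsat : cls x₀ = QuotientGroup.mk ⁻¹' ((QuotientGroup.mk (s := brG b)) '' cls x₀) := by
    refine Set.Subset.antisymm (Set.subset_preimage_image _ _) ?_
    rintro y ⟨z, hz, e⟩
    rw [QuotientGroup.eq] at e
    simpa using (hle e z).mp hz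
  have h := Nat.card_congr (QuotientGroup.preimageMkEquivSubgroupProdSet (brG b) ((QuotientGroup.mk (s := brG b)) '' cls x₀))
  rw [← hsat, Nat.card_prod, Nat.card_coe_set_eq, ncard_cls] at h
  exact ⟨_, h⟩

theorem centralizes_brG {b : G} (hb : Cop x₀ b) : ∀ n ∈ brG b, ∀ c : G, c * b * c⁻¹ * n = n * (c * b * c⁻¹) := by
  have h1 : brG b ≤ centralizer ({b} : Set G) := by
    rw [← subgroupOf_eq_top, ← index_eq_one]
    refine Nat.eq_one_of_dvd_coprimes hb ((index_dvd_card _).trans (card_brG_dvd hmax hb)) ?_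
    exact Cfsg.Agent.Cores.relIndex_dvd_index_right_normal _ _
  intro n hn c
  have hn' : c⁻¹ * n * c⁻¹⁻¹ ∈ brG b := (brG_normal b).conj_mem n hn c⁻¹
  rw [inv_inv] at hn'
  have h := mem_cent.mp (h1 hn')
  calc c * b * c⁻¹ * n = c * (b * (c⁻¹ * n * c)) * c⁻¹ := by group
    _ = c * ((c⁻¹ * n * c) * b) * c⁻¹ := by rw [h]
    _ = n * (c * b * c⁻¹) := by group

theorem brG_comm {b : G} (hb : Cop x₀ b) {m n : G} (hm : m ∈ brG b) (hn : n ∈ brG b) : m * n = n * m := by
  have hle : brG b ≤ centralizer (brG b : Set G) := by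
    show Subgroup.closure _ ≤ _
    rw [closure_le]
    rintro _ ⟨g, rfl⟩
    rw [SetLike.mem_coe, mem_centralizer_iff]
    intro y hy
    have h1 := centralizes_brG hmax hb y hy 1
    simp only [one_mul, inv_one, mul_one] at h1
    have h2 : Commute (g * b⁻¹ * g⁻¹) y := by
      have := (show Commute (g * b * g⁻¹) y from centralizes_brG hmax hb y hy g).inv_left
      simpa [mul_assoc] using this
    rw [show ⁅b, g⁆ = b * (g * b⁻¹ * g⁻¹) by rw [commutatorElement_def]; group]
    exact ((show Commute b y from h1).mul_left h2).symm.eq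
  exact mem_centralizer_iff.mp (hle hn) m hm

theorem brG_isPGroup {r : ℕ} (hr : r.Prime) {b : G} (hb : Cop x₀ b) (hp : IsPGroup r (zpowers b)) :
    IsPGroup r (brG b) := by
  haveI := Fact.mk hr
  obtain ⟨k, hk⟩ := hp ⟨b, mem_zpowers b⟩
  have hk' : b ^ r ^ k = 1 := congrArg Subtype.val hk
  rintro ⟨x, hx⟩
  refine ⟨k, Subtype.ext ?_⟩
  show x ^ r ^ k = 1
  have hle : x ∈ brG b → x ^ r ^ k = 1 := fun hx' => by
    refine closure_induction (p := fun y _ => y ^ r ^ k = 1) ?_ (one_pow _) ?_ ?_ hx'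
    · rintro _ ⟨g, rfl⟩
      have h1 := centralizes_brG hmax hb _ (mem_brG b g) 1
      simp only [one_mul, inv_one, mul_one] at h1
      have hc : Commute b (g * b⁻¹ * g⁻¹) := by
        have e : g * b⁻¹ * g⁻¹ = b⁻¹ * ⁅b, g⁆ := by rw [commutatorElement_def]; group
        rw [e]
        exact ((Commute.refl b).inv_right).mul_right h1
      rw [show ⁅b, g⁆ = b * (g * b⁻¹ * g⁻¹) by rw [commutatorElement_def]; group, hc.mul_pow, conj_pow, inv_pow, hk']
      simp
    · intro y z hy hz ey ez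
      rw [(show Commute y z from brG_comm hmax hb hy hz).mul_pow, ey, ez, one_mul]
    · intro y _ ey
      rw [inv_pow, ey, inv_one]
  exact hle hx

theorem gens_comm {r r' : ℕ} (hr : r.Prime) (hr' : r'.Prime) {b b' : G} (hp : IsPGroup r (zpowers b))
    (hp' : IsPGroup r' (zpowers b')) (hb : Cop x₀ b) (hb' : Cop x₀ b') : b * b' = b' * b := by
  haveI := Fact.mk hr
  haveI := Fact.mk hr'
  have hN := brG_isPGroup hmax hr hb hp
  have hN' := brG_isPGroup hmax hr' hb' hp'
  have hmem : ⁅b, b'⁆ ∈ brG b ⊓ brG b' :=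
    mem_inf.mpr ⟨mem_brG b b', commutatorElement_inv b' b ▸ inv_mem (mem_brG b' b)⟩
  by_cases hrr : r = r'
  · subst hrr
    by_cases hN1 : brG b = ⊥
    · exact commutatorElement_eq_one_iff_mul_comm.mp (mem_bot.mp (hN1 ▸ mem_brG b b'))
    have hrx : r ∣ cs x₀ := by
      obtain ⟨k, hk⟩ := hN.exists_card_eq
      refine dvd_trans ?_ (card_brG_dvd hmax hb)
      rcases k with _ | k
      · exact absurd (Subgroup.card_eq_one.mp (hk.trans (pow_zero r))) hN1
      · exact hk ▸ dvd_pow_self r k.succ_ne_zero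
    have hnd : ¬ r ∣ cs b := fun h => hr.ne_one (Nat.eq_one_of_dvd_coprimes hb hrx h)
    -- `⟨b'⟩ [b', G]` is a normal `r`-group
    set J := zpowers b' ⊔ brG b'
    have hJ : IsPGroup r J := hp'.to_sup_of_normal_right hN'
    have hJn : J.Normal := ⟨fun x hx g => by
      have hle : J ≤ J.comap (MulAut.conj g).toMonoidHom := by
        refine sup_le (zpowers_le.mpr ?_) fun y hy => mem_sup_right ((brG_normal b').conj_mem y hy g)
        show g * b' * g⁻¹ ∈ J
        rw [show g * b' * g⁻¹ = ⁅b', g⁆⁻¹ * b' by rw [commutatorElement_def]; group]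
        exact mul_mem (inv_mem (mem_sup_right (mem_brG b' g))) (mem_sup_left (mem_zpowers b'))
      exact hle hx⟩
    obtain ⟨R⟩ : Nonempty (Sylow r G) := inferInstance
    obtain ⟨c, hc⟩ := exists_conj_le (A := centralizer ({b} : Set G)) hnd R
    have hmemR : c⁻¹ * b' * c⁻¹⁻¹ ∈ (R : Subgroup G) := hJ.le_sylow_of_normal R (hJn.conj_mem b' (mem_sup_left (mem_zpowers b')) c⁻¹)
    have := hc _ hmemR
    rw [show c * (c⁻¹ * b' * c⁻¹⁻¹) * c⁻¹ = b' by group] at this
    exact (mem_cent.mp this).symm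
  · have hco : (Nat.card (brG b)).Coprime (Nat.card (brG b')) := by
      obtain ⟨k, hk⟩ := hN.exists_card_eq
      obtain ⟨k', hk'⟩ := hN'.exists_card_eq
      rw [hk, hk']
      exact ((Nat.coprime_primes hr hr').mpr hrr).pow _ _
    rw [inf_eq_bot_of_coprime hco] at hmem
    exact commutatorElement_eq_one_iff_mul_comm.mp (mem_bot.mp hmem)

theorem kerK_comm {x y : G} (hx : x ∈ kerK x₀) (hy : y ∈ kerK x₀) : x * y = y * x := by
  set s : Set G := (center G : Set G) ∪ {b | ∃ r : ℕ, r.Prime ∧ IsPGroup r (zpowers b) ∧ Cop x₀ b}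
  have hs : ∀ a ∈ s, ∀ b ∈ s, a * b = b * a := by
    rintro a (ha | ⟨r, hr, hp, hc⟩) b (hb | ⟨r', hr', hp', hc'⟩)
    · exact (mem_center_iff.mp ha b).symm
    · exact (mem_center_iff.mp ha b).symm
    · exact mem_center_iff.mp hb a
    · exact gens_comm hmax hr hr' hp hp' hc hc'
  have hle : closure s ≤ centralizer (closure s : Set G) := by
    have h1 : closure s ≤ centralizer s := by
      rw [closure_le]
      exact fun a ha => mem_centralizer_iff.mpr fun b hb => hs b hb a ha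
    rw [closure_le]
    intro a ha
    refine mem_centralizer_iff.mpr fun b hb => ?_
    exact (mem_centralizer_iff.mp (h1 hb) a ha).symm
  exact mem_centralizer_iff.mp (hle hy) x hx

omit hmax in
instance kerK_normal (x₀ : G) : (kerK x₀).Normal := ⟨fun x hx g => by
  have hle : kerK x₀ ≤ (kerK x₀).comap (MulAut.conj g).toMonoidHom := by
    show Subgroup.closure _ ≤ _
    rw [closure_le]
    rintro b (hb | ⟨r, hr, hp, hc⟩)
    · exact center_le_kerK x₀ ((inferInstance : (center G).Normal).conj_mem b hb g)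
    · refine mem_kerK ?_
      show (cs x₀).Coprime (cs (g * b * g⁻¹))
      rw [cs_conj]; exact hc
  exact hle hx⟩

/-- The orders of the elements of `[kerK, g]` involve only primes of the largest class size. -/
theorem dvd_of_commutator {k g : G} (hk : k ∈ kerK x₀) {r : ℕ} (hr : r.Prime) (hd : r ∣ orderOf ⁅k, g⁆) : r ∣ cs x₀ := by
  suffices h : ∀ k ∈ kerK x₀, ⁅k, g⁆ ∈ kerK x₀ ∧ ∀ r : ℕ, r.Prime → r ∣ orderOf ⁅k, g⁆ → r ∣ cs x₀ from
    (h k hk).2 r hr hd
  intro k hk
  refine closure_induction (p := fun y _ => ⁅y, g⁆ ∈ kerK x₀ ∧ ∀ r : ℕ, r.Prime → r ∣ orderOf ⁅y, g⁆ → r ∣ cs x₀)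
    ?_ ?_ ?_ ?_ hk
  · rintro b (hb | ⟨r', hr', hp, hc⟩)
    · have e : ⁅b, g⁆ = 1 := commutatorElement_eq_one_iff_mul_comm.mpr (mem_center_iff.mp hb g).symm
      rw [e]
      exact ⟨one_mem _, fun r hr hd => absurd (Nat.dvd_one.mp (orderOf_one (G := G) ▸ hd)) hr.ne_one⟩
    · refine ⟨?_, fun r hr hd => hd.trans ((Subgroup.orderOf_dvd_natCard _ (mem_brG b g)).trans (card_brG_dvd hmax hc))⟩
      rw [show ⁅b, g⁆ = b * (g * b⁻¹ * g⁻¹) by rw [commutatorElement_def]; group]
      exact mul_mem (mem_kerK hc) ((kerK_normal x₀).conj_mem _ (inv_mem (mem_kerK hc)) g)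
  · rw [commutatorElement_one_left]
    exact ⟨one_mem _, fun r hr hd => absurd (Nat.dvd_one.mp (orderOf_one (G := G) ▸ hd)) hr.ne_one⟩
  · rintro y z hy hz ⟨ey, fy⟩ ⟨ez, fz⟩
    have e : ⁅y * z, g⁆ = ⁅z, g⁆ * ⁅y, g⁆ := by
      rw [commutatorElement_mul_left_eq_conj_mul, kerK_comm hmax hy ez, mul_inv_cancel_right]
    rw [e]
    refine ⟨mul_mem ez ey, fun r hr hd => ?_⟩
    have := hd.trans ((show Commute ⁅z, g⁆ ⁅y, g⁆ from kerK_comm hmax ez ey).orderOf_mul_dvd_mul_orderOf)
    exact (hr.dvd_mul.mp this).elim (fz r hr) (fy r hr)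
  · rintro y hy ⟨ey, fy⟩
    have e : ⁅y⁻¹, g⁆ = (⁅y, g⁆)⁻¹ := by
      calc ⁅y⁻¹, g⁆ = y⁻¹ * (⁅y, g⁆)⁻¹ * y := by simp only [commutatorElement_def]; group
        _ = (⁅y, g⁆)⁻¹ := by rw [kerK_comm hmax (inv_mem hy) (inv_mem ey), inv_mul_cancel_right]
    rw [e]
    exact ⟨inv_mem ey, by rwa [orderOf_inv]⟩

end Cfsg.Agent.GroupStructure3.ClassGraph
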